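import Groth.Agent.Lib.PC.Devissage
import Groth.Agent.Lib.PC.Consequences
import Mathlib.Algebra.Homology.DerivedCategory.SingleTriangle

/-!
# Finite presentations and pseudo-coherence of single objects
-/

set_option autoImplicit false
set_option backward.isDefEq.respectTransparency false
set_option linter.style.haveILetI false

universe w v u

open CategoryTheory CategoryTheory.Limits DerivedCategory Pretriangulated

noncomputable section

namespace GrothLib.PCFP9

open GrothLib.PC

variable {C : Type u} [Category.{v} C] [Abelian C]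

theorem exactAt_succ_iff (K : ChainComplex C ℕ) (j : ℕ) :
    K.ExactAt (j + 1) ↔ (ShortComplex.mk (K.d (j + 2) (j + 1)) (K.d (j + 1) j) (K.d_comp_d _ _ _)).Exact :=
  HomologicalComplex.exactAt_iff' K (j + 2) (j + 1) j (by simp) (by simp)

theorem exactAt_zero_iff (K : ChainComplex C ℕ) : K.ExactAt 0 ↔ Epi (K.d 1 0) := by
  rw [HomologicalComplex.exactAt_iff' K 1 0 0 (by simp) (by simp)]
  exact ShortComplex.exact_iff_epi _ (K.shape 0 0 (by simp))

section Build

variable (K : ChainComplex C ℕ)

/-- The terms after removing the first. -/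
def tailX : ℕ → C
  | 0 => kernel (K.d 1 0)
  | j + 1 => K.X (j + 2)

/-- Their differentials. -/
def tailD : ∀ j, tailX K (j + 1) ⟶ tailX K j
  | 0 => kernel.lift (K.d 1 0) (K.d 2 1) (K.d_comp_d _ _ _)
  | j + 1 => K.d (j + 3) (j + 2)

theorem tailD_sq : ∀ j, tailD K (j + 1) ≫ tailD K j = 0
  | 0 => by
    rw [← cancel_mono (kernel.ι (K.d 1 0)), zero_comp, Category.assoc]
    exact (congrArg (K.d 3 2 ≫ ·) (kernel.lift_ι _ _ _)).trans (K.d_comp_d _ _ _)
  | j + 1 => K.d_comp_d _ _ _

/-- The complex without the first term. -/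
def tail : ChainComplex C ℕ := ChainComplex.of (tailX K) (tailD K) (tailD_sq K)

variable (F : C) {E₁ : C} (π : E₁ ⟶ F) (e : K.X 0 ≅ kernel π)

/-- The terms of the complex extended by one step. -/
def consX : ℕ → C
  | 0 => F
  | 1 => E₁
  | j + 2 => K.X (j + 1)

/-- Their differentials. -/
def consD : ∀ j, consX K F (E₁ := E₁) (j + 1) ⟶ consX K F (E₁ := E₁) j
  | 0 => π
  | 1 => K.d 1 0 ≫ e.hom ≫ kernel.ι π
  | j + 2 => K.d (j + 2) (j + 1)

theorem consD_sq : ∀ j, consD K F π e (j + 1) ≫ consD K F π e j = 0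
  | 0 => by
    change (K.d 1 0 ≫ e.hom ≫ kernel.ι π) ≫ π = 0
    simp
  | 1 => by
    change K.d 2 1 ≫ K.d 1 0 ≫ e.hom ≫ kernel.ι π = 0
    rw [K.d_comp_d_assoc, zero_comp]
  | j + 2 => K.d_comp_d _ _ _

/-- The complex extended by one step. -/
def cons : ChainComplex C ℕ := ChainComplex.of (consX K F (E₁ := E₁)) (consD K F π e) (consD_sq K F π e)

end Build

theorem of_d {X : ℕ → C} {d : ∀ j, X (j + 1) ⟶ X j} {sq : ∀ j, d (j + 1) ≫ d j = 0} (j : ℕ) :
    (ChainComplex.of X d sq).d (j + 1) j = d j := ChainComplex.of_d X d j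

/-- An exact presentation of length `n`. -/
def HasPres (P : ObjectProperty C) (F : C) (n : ℕ) : Prop :=
  ∃ K : ChainComplex C ℕ, Nonempty (K.X 0 ≅ F) ∧ (∀ j : ℕ, j ≤ n → K.ExactAt j) ∧
    (∀ j : ℕ, n + 1 < j → IsZero (K.X j)) ∧ (∀ j : ℕ, 1 ≤ j → j ≤ n + 1 → P (K.X j))

variable [HasDerivedCategory.{w} C]
  (P : ObjectProperty C) [P.IsClosedUnderIsomorphisms] [P.ContainsZero]
  (hsum : ∀ X Y : C, P X → P Y → P (X ⨯ Y))
  (hqs : PCoh.IsQuasiStableUnderKernels P) (hql : PCoh.IsQuasiLiftable P)

theorem acyclic_single (F : C) (i : ℤ) (hi : 0 < i) :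
    IsZero ((homologyFunctor C i).obj ((singleFunctor C 0).obj F)) :=
  isZero_homology_single 0 i (by omega) F

include hsum hqs hql

theorem pcn_zero_iff (F : C) :
    PCn P 0 ((singleFunctor C 0).obj F) ↔ PCoh.IsOfFiniteType P F :=
  (pcn_iff_isOfFiniteType P hsum hqs hql (fun i hi => acyclic_single F i hi)).trans
    ⟨fun h => isOfFiniteType_of_iso P (homologySingleIso 0 F) h,
      fun h => isOfFiniteType_of_iso P (homologySingleIso 0 F).symm h⟩

theorem pcn_of_hasPres : ∀ (n : ℕ) (F : C), HasPres P F n → PCn P (-(n : ℤ)) ((singleFunctor C 0).obj F) := by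
  intro n
  induction n with
  | zero =>
    rintro F ⟨K, ⟨e⟩, hex, -, hP⟩
    haveI := (exactAt_zero_iff K).1 (hex 0 le_rfl)
    simp only [Nat.cast_zero, neg_zero]
    exact (pcn_zero_iff P hsum hqs hql F).2 ⟨K.X 1, K.d 1 0 ≫ e.hom, hP 1 le_rfl le_rfl, inferInstance⟩
  | succ n ih =>
    rintro F ⟨K, ⟨e⟩, hex, hz, hP⟩
    haveI := (exactAt_zero_iff K).1 (hex 0 (Nat.zero_le _))
    have hker : HasPres P (kernel (K.d 1 0)) n := by
      refine ⟨tail K, ⟨Iso.refl _⟩, fun j hj => ?_, fun j hj => ?_, fun j h1 h2 => ?_⟩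
      · rcases j with - | - | j
        · rw [exactAt_zero_iff]
          change Epi ((ChainComplex.of (tailX K) (tailD K) (tailD_sq K)).d (0 + 1) 0)
          rw [of_d]
          exact ((exactAt_succ_iff K 0).1 (hex 1 (by omega))).epi_kernelLift
        · rw [exactAt_succ_iff]
          let S := ShortComplex.mk ((tail K).d (0 + 2) (0 + 1)) ((tail K).d (0 + 1) 0) ((tail K).d_comp_d _ _ _)
          let T := ShortComplex.mk (K.d 3 2) (K.d 2 1) (K.d_comp_d _ _ _)
          let φ : S ⟶ T :=
            { τ₁ := 𝟙 (K.X 3)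
              τ₂ := 𝟙 (K.X 2)
              τ₃ := kernel.ι (K.d 1 0)
              comm₁₂ := by
                change 𝟙 (K.X 3) ≫ K.d 3 2 = (ChainComplex.of (tailX K) (tailD K) (tailD_sq K)).d (1 + 1) 1 ≫ 𝟙 (K.X 2)
                rw [of_d]
                exact (Category.id_comp _).trans (Category.comp_id _).symm
              comm₂₃ := by
                change 𝟙 (K.X 2) ≫ K.d 2 1 = (ChainComplex.of (tailX K) (tailD K) (tailD_sq K)).d (0 + 1) 0 ≫ kernel.ι _
                rw [of_d]
                exact (Category.id_comp _).trans (kernel.lift_ι _ _ _).symm }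
          haveI : Epi φ.τ₁ := inferInstanceAs (Epi (𝟙 (K.X 3)))
          haveI : IsIso φ.τ₂ := inferInstanceAs (IsIso (𝟙 (K.X 2)))
          haveI : Mono φ.τ₃ := inferInstanceAs (Mono (kernel.ι (K.d 1 0)))
          exact (ShortComplex.exact_iff_of_epi_of_isIso_of_mono φ).2 ((exactAt_succ_iff K 1).1 (hex 2 (by omega)))
        · rw [exactAt_succ_iff]
          have h := (exactAt_succ_iff K (j + 2)).1 (hex (j + 3) (by omega))
          refine (ShortComplex.exact_iff_of_iso ?_).2 h
          refine ShortComplex.isoMk (Iso.refl _) (Iso.refl _) (Iso.refl _) ?_ ?_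
          · change 𝟙 (K.X (j + 4)) ≫ K.d (j + 4) (j + 3) =
              (ChainComplex.of (tailX K) (tailD K) (tailD_sq K)).d (j + 2 + 1) (j + 2) ≫ 𝟙 (K.X (j + 3))
            rw [of_d]
            exact (Category.id_comp _).trans (Category.comp_id _).symm
          · change 𝟙 (K.X (j + 3)) ≫ K.d (j + 3) (j + 2) =
              (ChainComplex.of (tailX K) (tailD K) (tailD_sq K)).d (j + 1 + 1) (j + 1) ≫ 𝟙 (K.X (j + 2))
            rw [of_d]
            exact (Category.id_comp _).trans (Category.comp_id _).symm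
      · rcases j with - | j
        · omega
        · exact hz (j + 2) (by omega)
      · rcases j with - | j
        · omega
        · exact hP (j + 2) (by omega) (by omega)
    have hS : (ShortComplex.mk (kernel.ι (K.d 1 0)) (K.d 1 0 ≫ e.hom)
        (by rw [kernel.condition_assoc, zero_comp])).ShortExact :=
      { exact := by
          let φ : ShortComplex.mk (kernel.ι (K.d 1 0)) (K.d 1 0) (kernel.condition _) ⟶
              ShortComplex.mk (kernel.ι (K.d 1 0)) (K.d 1 0 ≫ e.hom) (by rw [kernel.condition_assoc, zero_comp]) :=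
            { τ₁ := 𝟙 _
              τ₂ := 𝟙 _
              τ₃ := e.hom }
          haveI : Mono φ.τ₃ := inferInstanceAs (Mono e.hom)
          exact (ShortComplex.exact_iff_of_epi_of_isIso_of_mono φ).1
            (ShortComplex.exact_of_f_is_kernel _ (kernelIsKernel (K.d 1 0))) }
    have h1 : PCn P (-((n + 1 : ℕ) : ℤ) + 1) ((singleFunctor C 0).obj (kernel (K.d 1 0))) := by
      rw [show (-((n + 1 : ℕ) : ℤ) + 1) = -(n : ℤ) by omega]
      exact ih _ hker
    exact pcn_obj₃ P hsum hqs hql hS.singleTriangle_distinguished h1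
      (pcn_single_of_mem P (hP 1 le_rfl (by omega)) _)

theorem hasPres_of_pcn : ∀ (n : ℕ) (F : C), PCn P (-(n : ℤ)) ((singleFunctor C 0).obj F) → HasPres P F n := by
  intro n
  induction n with
  | zero =>
    intro F h
    obtain ⟨E₁, π, hE₁, hπ⟩ := (pcn_zero_iff P hsum hqs hql F).1 (by simpa using h)
    obtain ⟨Z, hZ, hPZ⟩ := ObjectProperty.ContainsZero.exists_zero (P := P)
    let X : ℕ → C := fun j => match j with
      | 0 => F
      | 1 => E₁
      | _ + 2 => Z
    let d : ∀ j, X (j + 1) ⟶ X j := fun j => match j with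
      | 0 => π
      | _ + 1 => 0
    have sq : ∀ j, d (j + 1) ≫ d j = 0 := fun j => by
      rcases j with - | j <;> exact zero_comp
    refine ⟨ChainComplex.of X d sq, ⟨Iso.refl _⟩, fun j hj => ?_, fun j hj => ?_, fun j h1 h2 => ?_⟩
    · obtain rfl : j = 0 := by omega
      rw [exactAt_zero_iff]
      change Epi ((ChainComplex.of X d sq).d (0 + 1) 0)
      rw [of_d]
      exact hπ
    · rcases j with - | - | j
      · omega
      · omega
      · exact hZ
    · obtain rfl : j = 1 := by omega
      exact hE₁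
  | succ n ih =>
    intro F h
    obtain ⟨E₁, π, hE₁, hπ⟩ := (pcn_zero_iff P hsum hqs hql F).1 (pcn_mono P (by omega) h)
    haveI := hπ
    have hS : (ShortComplex.mk (kernel.ι π) π (kernel.condition _)).ShortExact :=
      { exact := ShortComplex.exact_of_f_is_kernel _ (kernelIsKernel π) }
    have h2 := pcn_obj₁ P hsum hqs hql hS.singleTriangle_distinguished (pcn_single_of_mem P hE₁ _) h
    rw [show (-((n + 1 : ℕ) : ℤ) + 1) = -(n : ℤ) by omega] at h2
    obtain ⟨K, ⟨e⟩, hex, hz, hP⟩ := ih (kernel π) h2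
    haveI := (exactAt_zero_iff K).1 (hex 0 (Nat.zero_le _))
    refine ⟨cons K F π e, ⟨Iso.refl _⟩, fun j hj => ?_, fun j hj => ?_, fun j h1 h2 => ?_⟩
    · rcases j with - | - | - | j
      · rw [exactAt_zero_iff]
        change Epi ((ChainComplex.of (consX K F) (consD K F π e) (consD_sq K F π e)).d (0 + 1) 0)
        rw [of_d]
        exact hπ
      · rw [exactAt_succ_iff]
        let S := ShortComplex.mk ((cons K F π e).d (0 + 2) (0 + 1)) ((cons K F π e).d (0 + 1) 0)
          ((cons K F π e).d_comp_d _ _ _)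
        let φ : S ⟶ ShortComplex.mk (kernel.ι π) π (kernel.condition _) :=
          { τ₁ := K.d 1 0 ≫ e.hom
            τ₂ := 𝟙 E₁
            τ₃ := 𝟙 F
            comm₁₂ := by
              change (K.d 1 0 ≫ e.hom) ≫ kernel.ι π =
                (ChainComplex.of (consX K F) (consD K F π e) (consD_sq K F π e)).d (1 + 1) 1 ≫ 𝟙 E₁
              rw [of_d]
              exact (Category.assoc _ _ _).trans (Category.comp_id _).symm
            comm₂₃ := by
              change 𝟙 E₁ ≫ π =
                (ChainComplex.of (consX K F) (consD K F π e) (consD_sq K F π e)).d (0 + 1) 0 ≫ 𝟙 F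
              rw [of_d]
              exact (Category.id_comp _).trans (Category.comp_id _).symm }
        haveI : Epi φ.τ₁ := inferInstanceAs (Epi (K.d 1 0 ≫ e.hom))
        haveI : IsIso φ.τ₂ := inferInstanceAs (IsIso (𝟙 E₁))
        haveI : Mono φ.τ₃ := inferInstanceAs (Mono (𝟙 F))
        exact (ShortComplex.exact_iff_of_epi_of_isIso_of_mono φ).2 hS.exact
      · rw [exactAt_succ_iff]
        let S := ShortComplex.mk ((cons K F π e).d (1 + 2) (1 + 1)) ((cons K F π e).d (1 + 1) 1)
          ((cons K F π e).d_comp_d _ _ _)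
        let T := ShortComplex.mk (K.d 2 1) (K.d 1 0) (K.d_comp_d _ _ _)
        let φ : T ⟶ S :=
          { τ₁ := 𝟙 (K.X 2)
            τ₂ := 𝟙 (K.X 1)
            τ₃ := e.hom ≫ kernel.ι π
            comm₁₂ := by
              change 𝟙 (K.X 2) ≫ (ChainComplex.of (consX K F) (consD K F π e) (consD_sq K F π e)).d (2 + 1) 2 =
                K.d 2 1 ≫ 𝟙 (K.X 1)
              rw [of_d]
              exact (Category.id_comp _).trans (Category.comp_id _).symm
            comm₂₃ := by
              change 𝟙 (K.X 1) ≫ (ChainComplex.of (consX K F) (consD K F π e) (consD_sq K F π e)).d (1 + 1) 1 =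
                K.d 1 0 ≫ e.hom ≫ kernel.ι π
              rw [of_d]
              exact Category.id_comp _ }
        haveI : Epi φ.τ₁ := inferInstanceAs (Epi (𝟙 (K.X 2)))
        haveI : IsIso φ.τ₂ := inferInstanceAs (IsIso (𝟙 (K.X 1)))
        haveI : Mono φ.τ₃ := inferInstanceAs (Mono (e.hom ≫ kernel.ι π))
        exact (ShortComplex.exact_iff_of_epi_of_isIso_of_mono φ).1 ((exactAt_succ_iff K 0).1 (hex 1 (by omega)))
      · rw [exactAt_succ_iff]
        have h' := (exactAt_succ_iff K (j + 1)).1 (hex (j + 2) (by omega))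
        refine (ShortComplex.exact_iff_of_iso ?_).2 h'
        refine ShortComplex.isoMk (Iso.refl _) (Iso.refl _) (Iso.refl _) ?_ ?_
        · change 𝟙 (K.X (j + 3)) ≫ K.d (j + 3) (j + 2) =
            (ChainComplex.of (consX K F) (consD K F π e) (consD_sq K F π e)).d (j + 3 + 1) (j + 3) ≫ 𝟙 (K.X (j + 2))
          rw [of_d]
          exact (Category.id_comp _).trans (Category.comp_id _).symm
        · change 𝟙 (K.X (j + 2)) ≫ K.d (j + 2) (j + 1) =
            (ChainComplex.of (consX K F) (consD K F π e) (consD_sq K F π e)).d (j + 2 + 1) (j + 2) ≫ 𝟙 (K.X (j + 1))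
          rw [of_d]
          exact (Category.id_comp _).trans (Category.comp_id _).symm
    · rcases j with - | - | j
      · omega
      · omega
      · exact hz (j + 1) (by omega)
    · rcases j with - | - | j
      · omega
      · exact hE₁
      · exact hP (j + 1) (by omega) (by omega)

end GrothLib.PCFP9
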